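import Mathlib
import Cfsg.Agent.Lib.J1S.Defs
import Cfsg.Agent.Lib.WD.Red

/-! Standard subgroup `J₁` (plans/J1S.md, package JB). -/

set_option autoImplicit false
set_option linter.unusedSectionVars false

namespace CfsgLib.J1S

open Subgroup Cfsg CfsgLib.Tech CfsgLib.StdInt

variable {L : Type*} [Group L] (J : JL L)
include J

theorem JL.finite : Finite L := Nat.finite_of_card_ne_zero (by rw [J.card]; decide)

theorem JL.central (l : L) (h : ∀ a, l * a = a * l) : l = 1 := WD.cen_of_simple J.simple J.nab l h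

omit J in
theorem jb_card {A K : Subgroup L} {z : L} (zz : z * z = 1) (hz : z ∉ A)
    (hK : ∀ c, c ∈ K ↔ (c ∈ A ∨ z * c ∈ A)) (hc : ∀ c ∈ K, c * z = z * c) :
    Nat.card K = Nat.card A * 2 := by
  have hle : A ≤ K := fun c h => (hK c).2 (Or.inl h)
  have hzK : z ∈ K := (hK z).2 (Or.inr (zz ▸ A.one_mem))
  rw [← card_mul_relIndex' hle]
  congr 1
  refine index_eq_two_iff.2 ⟨⟨z, hzK⟩, fun b => ?_⟩
  simp only [mem_subgroupOf, coe_mul]
  rw [hc b b.2]
  have h1 : ¬ (z * b ∈ A ∧ (b : L) ∈ A) := fun h => hz (by simpa using A.mul_mem h.1 (A.inv_mem h.2))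
  rcases (hK b).1 b.2 with h | h
  · exact Or.inr ⟨h, fun h' => h1 ⟨h', h⟩⟩
  · exact Or.inl ⟨h, fun h' => h1 ⟨h, h'⟩⟩

/-- the double transposition `(0 1)(2 3)` -/
def jbA : alternatingGroup (Fin 5) := ⟨Equiv.swap 0 1 * Equiv.swap 2 3, Equiv.Perm.mem_alternatingGroup.2 (by decide)⟩

/-- the double transposition `(0 1)(3 4)` -/
def jbB : alternatingGroup (Fin 5) := ⟨Equiv.swap 0 1 * Equiv.swap 3 4, Equiv.Perm.mem_alternatingGroup.2 (by decide)⟩

omit J in
theorem jb_sq : ∀ x : alternatingGroup (Fin 5), x * jbA = jbA * x → x * x = 1 := by decide +kernel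

omit J in
theorem jb_cardA : Nat.card (centralizer ({jbA} : Set (alternatingGroup (Fin 5)))) = 4 := by
  have h : (Finset.univ.filter fun x : alternatingGroup (Fin 5) => x * jbA = jbA * x).card = 4 := by
    decide +kernel
  rw [← h, ← Fintype.card_subtype, ← Nat.card_eq_fintype_card]
  exact Nat.card_congr (Equiv.subtypeEquivRight fun x => mem_centralizer_singleton_iff)

theorem JL.card_cen {z : L} (zz : z * z = 1) (z1 : z ≠ 1) : Nat.card (centralizer ({z} : Set L)) = 120 := by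
  obtain ⟨φ, hi, hz, hc⟩ := J.cen z zz z1
  rw [jb_card zz hz (K := centralizer {z}) (fun c => mem_centralizer_singleton_iff.trans (hc c))
    (fun c h => mem_centralizer_singleton_iff.1 h), ← Nat.card_congr (MonoidHom.ofInjective hi).toEquiv,
    nat_card_alternatingGroup]
  simp [Nat.factorial]

theorem JL.three {z : L} (zz : z * z = 1) (z1 : z ≠ 1) : ∃ a b : L, a * a = 1 ∧ b * b = 1 ∧ a * z = z * a ∧
    b * z = z * b ∧ orderOf (a * b) = 3 := by
  obtain ⟨φ, hi, hz, hc⟩ := J.cen z zz z1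
  refine ⟨φ jbA, φ jbB, ?_, ?_, (hc _).2 (Or.inl ⟨_, rfl⟩), (hc _).2 (Or.inl ⟨_, rfl⟩), ?_⟩
  · rw [← map_mul, show jbA * jbA = 1 by decide, map_one]
  · rw [← map_mul, show jbB * jbB = 1 by decide, map_one]
  · rw [← map_mul, orderOf_injective φ hi]
    haveI : Fact (Nat.Prime 3) := ⟨by norm_num⟩
    exact orderOf_eq_prime (by decide) (by decide)

theorem JL.exists_V' : ∃ V : Subgroup L, Nat.card V = 8 ∧ (∀ v ∈ V, v * v = 1) ∧ IsSylowIn 2 V ⊤ ∧
    ∀ c, (∀ v ∈ V, c * v = v * c) → c ∈ V := by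
  haveI := J.finite
  obtain ⟨z, hz2⟩ := exists_prime_orderOf_dvd_card' (G := L) 2 (by rw [J.card]; decide)
  have zz : z * z = 1 := by rw [← pow_two, ← hz2, pow_orderOf_eq_one]
  have z1 : z ≠ 1 := fun h => by simp [h] at hz2
  obtain ⟨φ, hi, hz, hc⟩ := J.cen z zz z1
  set V : Subgroup L := centralizer {z} ⊓ centralizer {φ jbA} with hV
  have hm : ∀ c, c ∈ V ↔ c * z = z * c ∧ c * φ jbA = φ jbA * c := fun c => by
    rw [hV, mem_inf, mem_centralizer_singleton_iff, mem_centralizer_singleton_iff]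
  have hza : φ jbA * z = z * φ jbA := (hc _).2 (Or.inl ⟨_, rfl⟩)
  have hA : ∀ c, c ∈ (centralizer ({jbA} : Set (alternatingGroup (Fin 5)))).map φ ↔
      c ∈ φ.range ∧ c * φ jbA = φ jbA * c := fun c => by
    constructor
    · rintro ⟨x, hx, rfl⟩
      exact ⟨⟨x, rfl⟩, by rw [← map_mul, ← map_mul, mem_centralizer_singleton_iff.1 hx]⟩
    · rintro ⟨⟨x, rfl⟩, hx⟩
      exact ⟨x, mem_centralizer_singleton_iff.2 (hi (by rw [map_mul, map_mul, hx])), rfl⟩
  have hzc : ∀ c, z * c * φ jbA = φ jbA * (z * c) ↔ c * φ jbA = φ jbA * c := fun c => by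
    rw [← mul_assoc, hza, mul_assoc, mul_assoc, mul_right_inj]
  have hK : ∀ c, c ∈ V ↔ (c ∈ (centralizer ({jbA} : Set (alternatingGroup (Fin 5)))).map φ ∨
      z * c ∈ (centralizer ({jbA} : Set (alternatingGroup (Fin 5)))).map φ) := fun c => by
    rw [hm, hA, hA, hc, hzc]; tauto
  have hcard : Nat.card V = 8 := by
    rw [jb_card zz (fun h => hz ((hA z).1 h).1) hK (fun c h => ((hm c).1 h).1),
      card_map_of_injective hi, jb_cardA]
  have hsq : ∀ c ∈ (centralizer ({jbA} : Set (alternatingGroup (Fin 5)))).map φ, c * c = 1 := by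
    rintro _ ⟨x, hx, rfl⟩
    rw [← map_mul, jb_sq x (mem_centralizer_singleton_iff.1 hx), map_one]
  refine ⟨V, hcard, fun v hv => ?_, ⟨le_top, IsPGroup.of_card (n := 3) (by rw [hcard]; norm_num), ?_⟩,
    fun c h => (hm c).2 ⟨h z ((hm z).2 ⟨rfl, hza.symm⟩), h _ ((hm _).2 ⟨hza, rfl⟩)⟩⟩
  · rcases (hK v).1 hv with h | h
    · exact hsq v h
    · have h1 := hsq _ h
      have h2 := ((hm v).1 hv).1
      calc v * v = z * z * (v * v) := by rw [zz, one_mul]
        _ = z * v * (z * v) := by rw [mul_assoc z v, ← mul_assoc v z, h2]; group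
        _ = 1 := h1
  · have h1 := V.card_mul_index
    rw [hcard, J.card] at h1
    rw [relIndex_top_right]
    omega

theorem JL.sq_of_two {x : L} (h : Two x) : x * x = 1 := by
  haveI := J.finite
  obtain ⟨V, -, hV, hS, -⟩ := J.exists_V'
  obtain ⟨k, hk⟩ := h
  obtain ⟨g, -, hg⟩ := hS.exists_conj_mem (mem_top x) (isPGroup_zpowers_of_pow hk)
  have h1 := hV _ hg
  calc x * x = g⁻¹ * (g * x * g⁻¹ * (g * x * g⁻¹)) * g := by group
    _ = 1 := by rw [h1]; group

theorem JL.exists_V : ∃ V : Subgroup L, Nat.card V = 8 ∧ (∀ v ∈ V, v * v = 1) ∧ IsSylowIn 2 V ⊤ ∧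
    ∀ c, (∀ v ∈ V, c * v = v * c) → c ∈ V := J.exists_V'

end CfsgLib.J1S
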