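import Mathlib
import Cfsg.Agent.Lib.J1S.Jb
import Cfsg.Agent.Lib.StrEmb.PSL2Recog
import Cfsg.Agent.Lib.W2.Tools
import Cfsg.Agent.Lib.GHE.E8a

/-! Standard subgroup `J₁` (plans/J1S.md, package FLDA). -/

set_option autoImplicit false
set_option linter.unusedSectionVars false

namespace CfsgLib.J1S

open Subgroup Cfsg CfsgLib.Tech CfsgLib.StdInt

variable {L : Type*} [Group L]

/-- an element of order seven normalising `V` -/
theorem exists_seven [Finite L] {V : Subgroup L} (h8 : Nat.card V = 8) (el : ∀ v ∈ V, v * v = 1)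
    (syl : IsSylowIn 2 V ⊤) (cv : ∀ c, (∀ v ∈ V, c * v = v * c) → c ∈ V)
    (one : ∀ a b : L, a * a = 1 → b * b = 1 → a ≠ 1 → b ≠ 1 → IsConj a b) :
    ∃ h ∈ normalizer (V : Set L), orderOf h = 7 ∧
      (∀ v ∈ V, ∀ w ∈ V, v ≠ 1 → w ≠ 1 → ∃ i : ℕ, h ^ i * v * (h ^ i)⁻¹ = w) ∧
      ∀ g ∈ normalizer (V : Set L), ∃ v ∈ V, ∃ k : ℕ, g * h * g⁻¹ = v * h ^ k := by
  have : Fact (Nat.Prime 7) := ⟨by norm_num⟩
  have el' : ∀ x : V, x * x = 1 := fun x => Subtype.ext (el x x.2)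
  have ab : ∀ a ∈ V, ∀ b ∈ V, a * b = b * a := fun a ha b hb =>
    congrArg Subtype.val (GHE.e8_comm el' ⟨a, ha⟩ ⟨b, hb⟩)
  obtain ⟨π, app⟩ : ∃ π : normalizer (V : Set L) →* MulAut V, ∀ g x, ((π g x : V) : L) = g * x * (g : L)⁻¹ :=
    ⟨V.normalizerMonoidHom, fun _ _ => rfl⟩
  have ker : ∀ g : normalizer (V : Set L), π g = 1 → (g : L) ∈ V := fun g e => cv _ fun v hv => by
    have := app g ⟨v, hv⟩
    rw [e] at this
    exact mul_inv_eq_iff_eq_mul.1 this.symm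
  have odd : Odd (Nat.card π.range) := by
    have d : π.ker.index ∣ V.relIndex (normalizer (V : Set L)) := index_dvd_of_le fun g hg => by
      ext x
      rw [app, ab g hg _ x.2, mul_inv_cancel_right, MulAut.one_apply]
    rw [← index_ker, ← Nat.not_even_iff_odd, even_iff_two_dvd]
    exact fun x => (syl.of_le le_normalizer le_top).not_dvd (x.trans d)
  have nf : ∀ u : V, (∀ b ∈ π.range, b u = u) → u = 1 := fun u hu => by
    by_contra u1
    obtain ⟨w, w1, wu⟩ : ∃ w : V, w ≠ 1 ∧ w ≠ u := by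
      by_contra! hc
      have := Set.ncard_le_ncard (show (Set.univ : Set V) ⊆ {1, u} from fun w _ => by
        by_cases w1 : w = 1
        · exact .inl w1
        · exact .inr (hc w w1))
      rw [Set.ncard_univ, h8, Set.ncard_pair (Ne.symm u1)] at this
      omega
    obtain ⟨k, hk⟩ := isConj_iff.1 (one u w (el _ u.2) (el _ w.2) (fun x => u1 (Subtype.ext x))
      fun x => w1 (Subtype.ext x))
    obtain ⟨n, -, hn, e⟩ := W2.exists_normalizer_conj syl (a := u) (mem_top k)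
      (fun x hx => W2.mem_Cx.2 (ab _ hx _ u.2)) (hk ▸ fun x hx => W2.mem_Cx.2 (ab _ hx _ w.2))
    exact wu (Subtype.ext (by rw [← hk, ← e, ← app ⟨n, hn⟩ u, hu _ ⟨_, rfl⟩]))
  obtain ⟨_, ⟨g, rfl⟩, o, hn⟩ := GHE.e8_seven h8 el' odd nf
  have p7 : π g ^ 7 = 1 := o ▸ pow_orderOf_eq_one _
  have g7 := el _ (ker (g ^ 7) (by rw [map_pow, p7]))
  have πh : π (g ^ 8) = π g := by rw [map_pow, pow_succ, p7, one_mul]
  have pw : ∀ q ∈ zpowers (π g), ∃ i : ℕ, π ((g ^ 8) ^ i) = q := fun q hq => by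
    obtain ⟨i, rfl⟩ := mem_powers_iff_mem_zpowers.2 hq
    exact ⟨i, by rw [map_pow, πh]⟩
  refine ⟨(g ^ 8 : normalizer (V : Set L)), (g ^ 8).2, orderOf_eq_prime ?_ fun x => ?_, fun v hv w hw v1 w1 => ?_,
    fun a ha => ?_⟩
  · rw [coe_pow, ← pow_add] at g7
    rw [coe_pow, ← pow_mul, show 8 * 7 = (7 + 7) * 4 by norm_num, pow_mul, g7, one_pow]
  · rw [show g ^ 8 = 1 from Subtype.ext x, map_one] at πh
    simp [← πh] at o
  · obtain ⟨q, hq, e⟩ := GHE.e8_trans h8 o (u := ⟨v, hv⟩) (v := ⟨w, hw⟩) (fun x => v1 (congrArg Subtype.val x))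
      fun x => w1 (congrArg Subtype.val x)
    obtain ⟨i, rfl⟩ := pw q hq
    exact ⟨i, (app _ ⟨v, hv⟩).symm.trans (congrArg Subtype.val e)⟩
  · obtain ⟨i, e⟩ := pw _ (conj_mem_of_mem_normalizer (hn (le_normalizer ⟨⟨a, ha⟩, rfl⟩)) (mem_zpowers _))
    refine ⟨_, ker (⟨a, ha⟩ * g ^ 8 * ⟨a, ha⟩⁻¹ * ((g ^ 8) ^ i)⁻¹) ?_, i, ?_⟩
    · rw [map_mul, map_inv, e, map_mul, map_mul, map_inv, πh, mul_inv_cancel]
    · simp

end CfsgLib.J1S
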