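import Mathlib
import Cfsg.Agent.Lib.J1S.FldA

/-! Standard subgroup `J₁` (plans/J1S.md, package FLD). -/

set_option autoImplicit false
set_option linter.unusedSectionVars false

namespace CfsgLib.J1S

open Subgroup Cfsg CfsgLib.Tech CfsgLib.StdInt

variable {L : Type*} [Group L]

theorem jf_of_seven [Finite L] {V : Subgroup L} (h8 : Nat.card V = 8) (el : ∀ v ∈ V, v * v = 1)
    (syl : IsSylowIn 2 V ⊤) (cv : ∀ c, (∀ v ∈ V, c * v = v * c) → c ∈ V) {h : L}
    (hn : h ∈ normalizer (V : Set L)) (h7 : orderOf h = 7)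
    (tr : ∀ v ∈ V, ∀ w ∈ V, v ≠ 1 → w ≠ 1 → ∃ i : ℕ, h ^ i * v * (h ^ i)⁻¹ = w)
    (nh : ∀ g ∈ normalizer (V : Set L), ∃ v ∈ V, ∃ k : ℕ, g * h * g⁻¹ = v * h ^ k) :
    ∃ (F : Type) (_ : Field F) (_ : Finite F) (ι η : F → L), Nat.card F = 8 ∧ JF ι η := by
  classical
  have cm : ∀ v ∈ V, ∀ w ∈ V, v * w = w * v := fun v hv w hw => by
    rw [← inv_eq_of_mul_eq_one_right (el _ (V.mul_mem hv hw)), mul_inv_rev,
      inv_eq_of_mul_eq_one_right (el v hv), inv_eq_of_mul_eq_one_right (el w hw)]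
  let ρ : ℕ → MulAut V := fun i => V.normalizerMonoidHom (⟨h, hn⟩ ^ i)
  have ρv : ∀ i (v : V), (ρ i v : L) = h ^ i * v * (h ^ i)⁻¹ := fun i v => rfl
  have ρa : ∀ i j v, ρ (i + j) v = ρ i (ρ j v) := fun i j v => by
    simp only [ρ, pow_add, map_mul, MulAut.mul_apply]
  have : Nontrivial V := Finite.one_lt_card_iff_nontrivial.1 (by omega)
  obtain ⟨s, hs⟩ := exists_ne (1 : V)
  have htr : ∀ v : V, v ≠ 1 → ∃ d, ρ d s = v := fun v hv => by
    obtain ⟨i, hi⟩ := tr s s.2 v v.2 (fun e => hs (Subtype.ext e)) fun e => hv (Subtype.ext e)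
    exact ⟨i, Subtype.ext hi⟩
  obtain ⟨F, _, _, c, cadd, cs, cρ⟩ := StrEmb.exists_field_of_regular ρ
    (fun i j v => by rw [← ρa, ← ρa, add_comm]) s hs htr
  have c1 : c 1 = 0 := by have := cadd 1 1; rw [mul_one] at this; exact left_eq_add.1 this
  let ι : F → L := fun a => c.symm a
  have ιV : ∀ a, ι a ∈ V := fun a => (c.symm a).2
  have ιs : ∀ v ∈ V, ∃ a, ι a = v := fun v hv => ⟨c ⟨v, hv⟩, by simp [ι]⟩
  have ιadd : ∀ a b, ι (a + b) = ι a * ι b := fun a b => by
    have : c.symm (a + b) = c.symm a * c.symm b := c.injective (by simp [cadd])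
    simp only [ι, this, coe_mul]
  have ιinj : Function.Injective ι := Subtype.val_injective.comp c.symm.injective
  have ι0 : ι 0 = 1 := by simp only [ι, ← c1, Equiv.symm_apply_apply, coe_one]
  let lam : ℕ → F := fun i => c (ρ i s)
  have act : ∀ i a, h ^ i * ι a * (h ^ i)⁻¹ = ι (lam i * a) := fun i a => by
    have := cρ i (c.symm a)
    rw [Equiv.apply_symm_apply] at this
    simp only [ι, lam, ← this, Equiv.symm_apply_apply, ρv]
  have lama : ∀ i j, lam (i + j) = lam i * lam j := fun i j => by simp only [lam]; rw [ρa, cρ]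
  have lams : ∀ l, l ≠ 0 → ∃ i, lam i = l := fun l hl => by
    obtain ⟨i, hi⟩ := htr (c.symm l) fun e => hl (by rw [← c1, ← e, Equiv.apply_symm_apply])
    exact ⟨i, by simp only [lam, hi, Equiv.apply_symm_apply]⟩
  have det : ∀ i j, lam i = lam j → h ^ i = h ^ j := fun i j e => by
    have m : (h ^ j)⁻¹ * h ^ i ∈ V := cv _ fun v hv => by
      obtain ⟨a, rfl⟩ := ιs v hv
      have := (act i a).trans (e ▸ (act j a).symm)
      calc (h ^ j)⁻¹ * h ^ i * ι a = (h ^ j)⁻¹ * (h ^ i * ι a * (h ^ i)⁻¹) * h ^ i := by group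
        _ = _ := by rw [this]; group
    have m7 : ((h ^ j)⁻¹ * h ^ i) ^ 7 = 1 := by
      rw [((Commute.refl h).pow_pow j i).inv_left.mul_pow, inv_pow, ← pow_mul, ← pow_mul, mul_comm j, mul_comm i,
        pow_mul, pow_mul, ← h7, pow_orderOf_eq_one, one_pow, one_pow, inv_one, mul_one]
    rw [show 7 = 2 * 3 + 1 from rfl, pow_succ, pow_mul, pow_two, el _ m, one_pow, one_mul, inv_mul_eq_one] at m7
    exact m7.symm
  choose! idx hidx using lams
  have lam0 : ∀ i, lam i ≠ 0 := fun i e => hs ((ρ i).injective (c.injective (by rw [map_one, c1]; exact e)))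
  have ηl : ∀ i, h ^ idx (lam i) = h ^ i := fun i => det _ _ (hidx _ (lam0 i))
  refine ⟨F, inferInstance, inferInstance, ι, fun l => h ^ idx l, by rw [← Nat.card_congr c, h8], ιadd, ιinj,
    ιinj (by rw [← one_add_one_eq_two, ιadd, el _ (ιV 1), ι0]), fun l m hl hm => ?_,
    fun l a hl => by rw [act, hidx l hl], fun R hR hV r hr => ιs r ?_, fun g hg => ?_,
    fun g hg => ιs g (cv g fun v hv => by obtain ⟨a, rfl⟩ := ιs v hv; exact hg a)⟩
  · rw [← pow_add]
    exact det _ _ (by rw [lama, hidx l hl, hidx m hm, hidx _ (mul_ne_zero hl hm)])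
  · rwa [← syl.eq_of_le hR (fun v hv => by obtain ⟨a, rfl⟩ := ιs v hv; exact hV a) le_top]
  choose f hf using hg
  have gN : g ∈ normalizer (V : Set L) := mem_normalizer_fintype fun v hv => by
    obtain ⟨a, rfl⟩ := ιs v hv; rw [hf]; exact ιV _
  obtain ⟨v, hv, k, hk⟩ := nh g gN
  have pw : ∀ i, ∃ w ∈ V, g * h ^ i * g⁻¹ = w * h ^ (k * i) := by
    intro i
    induction i with
    | zero => exact ⟨1, V.one_mem, by simp⟩
    | succ i ih =>
      obtain ⟨w, hw, e⟩ := ih
      obtain ⟨a, rfl⟩ := ιs v hv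
      refine ⟨w * ι (lam (k * i) * a), V.mul_mem hw (ιV _), ?_⟩
      rw [← act, pow_succ, show g * (h ^ i * h) * g⁻¹ = g * h ^ i * g⁻¹ * (g * h * g⁻¹) by group, e, hk, mul_add,
        mul_one, pow_add]
      group
  have fadd : ∀ a b, f (a + b) = f a + f b := fun a b => ιinj (by rw [ιadd, ← hf, ← hf, ← hf, ιadd]; group)
  have finj : Function.Injective f := fun a b e => ιinj (by
    have := (hf a).trans (e ▸ (hf b).symm)
    exact mul_left_cancel (mul_right_cancel this))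
  have f0 : f 0 = 0 := by have := fadd 0 0; rw [add_zero] at this; exact left_eq_add.1 this
  have f1 : f 1 ≠ 0 := fun e => one_ne_zero (finj (e.trans f0.symm))
  have fl : ∀ i a, f (lam i * a) = lam (k * i) * f a := fun i a => ιinj (by
    obtain ⟨w, hw, e⟩ := pw i
    rw [← hf, ← act, show g * (h ^ i * ι a * (h ^ i)⁻¹) * g⁻¹ =
      g * h ^ i * g⁻¹ * (g * ι a * g⁻¹) * (g * h ^ i * g⁻¹)⁻¹ by group, e, hf,
      show w * h ^ (k * i) * ι (f a) * (w * h ^ (k * i))⁻¹ =
        w * (h ^ (k * i) * ι (f a) * (h ^ (k * i))⁻¹) * w⁻¹ by group, act, cm w hw _ (ιV _), mul_inv_cancel_right])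
  have τl : ∀ i, (f 1)⁻¹ * f (lam i) = lam (k * i) := fun i => by
    have := fl i 1
    rw [mul_one] at this
    rw [this]; field_simp
  let τ : F →+* F :=
    { toFun := fun a => (f 1)⁻¹ * f a
      map_one' := inv_mul_cancel₀ f1
      map_zero' := by rw [f0, mul_zero]
      map_add' := fun a b => by rw [fadd, mul_add]
      map_mul' := fun a b => by
        by_cases ha : a = 0
        · simp [ha, f0]
        · rw [← hidx a ha, fl, τl]; ring }
  refine ⟨f 1, RingEquiv.ofBijective τ (Finite.injective_iff_bijective.1 τ.injective), fun a => ?_, fun l hl => ?_⟩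
  · rw [hf]
    exact congrArg ι (mul_inv_cancel_left₀ f1 _).symm
  · obtain ⟨w, hw, e⟩ := pw (idx l)
    obtain ⟨a, rfl⟩ := ιs w hw
    refine ⟨a, e.trans ?_⟩
    rw [← ηl (k * idx l), ← τl, hidx l hl]
    rfl

theorem JL.exists_jf (J : JL L) :
    ∃ (F : Type) (_ : Field F) (_ : Finite F) (ι η : F → L), Nat.card F = 8 ∧ JF ι η := by
  have := J.finite
  obtain ⟨V, h8, el, syl, cv⟩ := J.exists_V
  obtain ⟨h, hn, h7, tr, nh⟩ := exists_seven h8 el syl cv J.one
  exact jf_of_seven h8 el syl cv hn h7 tr nh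

end CfsgLib.J1S
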