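import Mathlib
import Cfsg.Agent.Lib.J1S.Jb
import Cfsg.Agent.Lib.JG.Base

/-! Standard subgroup `J₁` (plans/J1S.md, package FRM). -/

set_option autoImplicit false
set_option linter.unusedSectionVars false

namespace CfsgLib.J1S

open Subgroup Cfsg CfsgLib.Tech CfsgLib.StdInt

variable {L G : Type*} [Group L] [Group G] [Finite G] {F : Type*} [Field F] [Finite F]

omit [Finite G] in
theorem frm_zp {t x : G} (tt : t * t = 1) (hx : x ∈ zpowers t) : x = 1 ∨ x = t := by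
  obtain ⟨k, rfl⟩ := mem_zpowers_iff.1 hx
  have h2 : t ^ (2 : ℤ) = 1 := by rw [zpow_two, tt]
  rcases Int.even_or_odd' k with ⟨m, rfl | rfl⟩
  · left; rw [zpow_mul, h2, one_zpow]
  · right; rw [zpow_add, zpow_mul, h2, one_zpow, one_mul, zpow_one]

omit [Finite G] in
theorem frm_comm {ρ : L →* G} {t : G} {Y : Subgroup G} (w : W0 ρ t Y) {c x : G} (hc : c * t = t * c)
    (hx : x * t = t * x) : ∃ y ∈ Y, ∃ l, c * x * c⁻¹ * x⁻¹ = y * ρ l := by
  obtain ⟨y, hy, l, h, hl⟩ := w.cent hc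
  obtain ⟨y', hy', l', h'⟩ := w.dec x hx
  have e1 : c * y' * c⁻¹ = y * y' * y⁻¹ := by
    have : y * ρ l * y' * (y * ρ l)⁻¹ = y * y' * y⁻¹ := by
      rw [mul_assoc y, ← w.yl y' hy']; group
    rcases h with rfl | rfl
    · exact this
    · rw [← this, mul_assoc _ t, ← w.yt y' hy']; group
  have e2 : c * (y' * ρ l') * c⁻¹ * (y' * ρ l')⁻¹ = y * y' * y⁻¹ * y'⁻¹ * ρ (l * l' * l⁻¹ * l'⁻¹) := by
    rw [mul_assoc _ y'⁻¹, w.yl _ (inv_mem hy'), map_mul, ← hl, ← e1, map_inv]; group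
  refine ⟨_, mul_mem (mul_mem (mul_mem hy hy') (inv_mem hy)) (inv_mem hy'), l * l' * l⁻¹ * l'⁻¹, ?_⟩
  rcases h' with rfl | rfl
  · exact e2
  · rw [← e2]
    calc c * (y' * ρ l' * t) * c⁻¹ * (y' * ρ l' * t)⁻¹
        = c * (y' * ρ l') * (t * c⁻¹) * t⁻¹ * (y' * ρ l')⁻¹ := by group
      _ = _ := by rw [(show Commute c t from hc).inv_left.eq.symm]; group

omit [Finite G] in
theorem frm_act {ρ : L →* G} {t : G} {Y : Subgroup G} (w : W0 ρ t Y) {x : G} (hx : x ∈ zpowers t) (l : L) :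
    x * ρ l * x⁻¹ = ρ l := by
  rcases frm_zp w.sq hx with rfl | rfl
  · simp
  · rw [w.comm, mul_inv_cancel_right]

/-- the frame -/
def frmD {ι η : F → L} (f : JF ι η) (h8 : Nat.card F = 8) {ρ : L →* G} {t : G} {Y : Subgroup G}
    (w : W0 ρ t Y) : JG.Fr F G where
  t := t
  ι a := ρ (ι a)
  η a := ρ (η a)
  T1 := zpowers t
  σ _ := RingEquiv.refl F
  two := f.two
  big := by
    by_contra hn
    have : (Set.univ : Set F) ⊆ {0, 1} := fun c _ => by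
      by_contra hc
      exact hn ⟨c, fun e => hc (by simp [e]), fun e => hc (by simp [e])⟩
    have h1 := Set.ncard_le_ncard this
    rw [Set.ncard_univ, h8, Set.ncard_pair zero_ne_one] at h1
    omega
  add a b := by rw [f.add, map_mul]
  inj := w.inj.comp f.inj
  tt := w.sq
  tV a := by simpa using w.ne_t (ι a) (one_mem Y)
  tι a := w.comm _
  ηmul l m hl hm := by rw [f.ηmul l m hl hm, map_mul]
  ηt l _ := (w.comm _).symm
  ηι l a hl := by rw [← f.ηι l a hl, map_mul, map_mul, map_inv]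
  pg1 := fun ⟨x, hx⟩ => ⟨1, Subtype.ext (by
    rcases frm_zp w.sq hx with rfl | rfl
    · simp
    · simpa [pow_two] using w.sq)⟩
  tT1 := mem_zpowers t
  T1t x hx := by rcases frm_zp w.sq hx with rfl | rfl <;> simp
  act x hx a := frm_act w hx _
  actη x hx l _ := frm_act w hx _

theorem frm_ok {ι η : F → L} (f : JF ι η) (h8 : Nat.card F = 8) {ρ : L →* G} {t : G} {Y : Subgroup G}
    (w : W0 ρ t Y) : (frmD f h8 w).Ok := by
  set D := frmD f h8 w
  have key : ∀ c x, c * t = t * c → x * t = t * x → c * x * c⁻¹ * x⁻¹ ∈ D.T → c * x * c⁻¹ * x⁻¹ ∈ D.V := by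
    intro c x hc hx h
    obtain ⟨y, hy, l, e⟩ := frm_comm w hc hx
    obtain ⟨a, h | h⟩ := D.mem_E.1 h
    · exact h ▸ D.ι_mem a
    · exact (w.ne_mul l (ι a) hy (one_mem Y) (by rw [← e, h, one_mul]; exact w.comm _)).elim
  have tT : t ∈ D.T := D.t_mem_E
  have : IsCyclic D.T1 := inferInstanceAs (IsCyclic (zpowers t))
  refine ⟨?_, isCyclic_of_le inf_le_left, fun g hg hn => ?_, fun g hg hc => ?_,
    fun x y hx hy _ h => key y x hy hx h,
    fun _ c x hc hx h => key c x hc (D.T_comm hx) (mul_mem h (inv_mem hx))⟩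
  · refine isSylowIn_of_maximal
      (fun ⟨x, hx⟩ => ⟨1, Subtype.ext (by simpa [pow_two] using D.E_sq hx)⟩)
      (fun x hx => mem_centralizer_singleton_iff.2 (D.T_comm hx)) fun R hR h1 h2 r hr => ?_
    have k : ∀ l, ρ l ∈ R → ρ l ∈ D.T := fun l hl => by
      obtain ⟨a, rfl⟩ := f.syl (R.comap ρ) (hR.comap_of_injective ρ w.inj)
        (fun a => h1 (D.V_le_E (D.ι_mem a))) l hl
      exact D.V_le_E (D.ι_mem a)
    obtain ⟨n, hn⟩ := hR ⟨r, hr⟩
    obtain ⟨l, -, rfl | rfl⟩ := w.two (mem_centralizer_singleton_iff.1 (h2 hr)) ⟨n, congrArg Subtype.val hn⟩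
    · exact k l hr
    · exact mul_mem (k l ((R.mul_mem_cancel_right (h1 tT)).1 hr)) tT
  · obtain ⟨y, hy, l, -, hl⟩ := w.cent hg
    obtain ⟨c, τ, k1, k2⟩ := f.semi l fun a => by
      obtain ⟨b, hb⟩ := (mem_normalizer_iff.1 hn _).1 (D.ι_mem a)
      exact ⟨b, w.inj ((hl _).symm.trans hb.symm)⟩
    refine ⟨c, τ, fun a => (hl _).trans (congrArg ρ (k1 a)), fun m hm => ?_⟩
    obtain ⟨a, ha⟩ := k2 m hm
    exact ⟨a, (hl _).trans ((congrArg ρ ha).trans (map_mul ρ _ _))⟩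
  · obtain ⟨y, hy, l, -, hl⟩ := w.cent hg
    obtain ⟨a, rfl⟩ := f.cv l fun a => mul_inv_eq_iff_eq_mul.1 (w.inj (by
      rw [← hl, mul_inv_eq_iff_eq_mul]; exact (hc _ (D.ι_mem a)).symm))
    refine ⟨a, fun m _ => mul_inv_eq_iff_eq_mul.1 ?_⟩
    have e : ρ (ι a) * ρ (ι a) = 1 := D.ιι a
    calc ρ (ι a) * g * ρ (η m) * (ρ (ι a) * g)⁻¹ = ρ (ι a) * (g * ρ (η m) * g⁻¹) * (ρ (ι a))⁻¹ := by group
      _ = (ρ (ι a) * ρ (ι a)) * ρ (η m) * (ρ (ι a) * ρ (ι a))⁻¹ := by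
        rw [hl, map_mul, map_mul, map_inv]; group
      _ = ρ (η m) := by rw [e]; group

theorem exists_glob (J : JL L) {ι η : F → L} (f : JF ι η) (h8 : Nat.card F = 8) {ρ : L →* G} {t : G}
    {Y E : Subgroup G} (w : W0 ρ t Y) (top : SzS.Top t E) (hs : IsSimpleGroup E) (nab : ¬ IsMulCommutative E)
    (cE : centralizer (E : Set G) = ⊥) (le : ρ.range ≤ E) : ∃ D : JG.Fr F G, D.Glob ρ.range E := by
  have := J.finite
  set D := frmD f h8 w
  have zz : ι 1 * ι 1 = 1 := w.inj (by rw [map_mul, map_one]; exact D.ιι 1)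
  have z1 : ι 1 ≠ 1 := fun e => one_ne_zero (D.ι_eq_one.1 (show ρ (ι 1) = 1 by rw [e, map_one]))
  refine ⟨D, frm_ok f h8 w, top, hs, nab, cE, le, ?_, h8, rfl, ?_, ?_, ?_, fun x hx h2 => ?_⟩
  · rintro _ ⟨a, rfl⟩
    exact ⟨ι a, rfl⟩
  · rw [← J.card]
    exact (Nat.card_congr (MonoidHom.ofInjective w.inj).toEquiv).symm
  · obtain ⟨a, b, h1, h2, h3, h4, h5⟩ := J.three zz z1
    refine ⟨ρ a, ⟨a, rfl⟩, ρ b, ⟨b, rfl⟩, by rw [← map_mul, h1, map_one], by rw [← map_mul, h2, map_one],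
      ?_, ?_, by rw [← map_mul, orderOf_injective ρ w.inj, h5]⟩
    · simpa only [map_mul] using! congrArg ρ h3
    · simpa only [map_mul] using! congrArg ρ h4
  · rw [← J.card_cen zz z1, ← card_map_of_injective w.inj]
    refine card_le_of_le ?_
    rintro _ ⟨⟨l, rfl⟩, hl⟩
    refine ⟨l, mem_centralizer_singleton_iff.2 (w.inj ?_), rfl⟩
    rw [map_mul, map_mul]
    exact mem_centralizer_singleton_iff.1 hl
  · obtain ⟨n, hn⟩ := h2 ⟨x, mem_zpowers x⟩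
    obtain ⟨l, h3, h4⟩ := w.two hx ⟨n, congrArg Subtype.val hn⟩
    have e : ρ l * ρ l = 1 := by rw [← map_mul, J.sq_of_two h3, map_one]
    rcases h4 with rfl | rfl
    · exact ⟨Or.inl ⟨l, rfl⟩, e⟩
    · refine ⟨Or.inr ⟨l, ?_⟩, ?_⟩
      · exact (w.conj_ι l).symm.trans (mul_assoc _ _ _)
      · rw [mul_assoc, ← mul_assoc t, ← mul_assoc, mul_assoc, w.conj_ι, e]

end CfsgLib.J1S
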