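import Mathlib
import Cfsg.Agent.Lib.J1S.Jb
import Cfsg.Agent.Lib.StdW.Pair

/-! Standard subgroup `J₁` (plans/J1S.md, package GJA). -/

set_option autoImplicit false
set_option linter.unusedSectionVars false

namespace CfsgLib.J1S

open Subgroup Cfsg CfsgLib.Tech CfsgLib.StdInt

theorem gja_gen {a : alternatingGroup (Fin 5)} (a1 : a ≠ 1) {H : Subgroup (alternatingGroup (Fin 5))}
    (h : ∀ b, b * a * b⁻¹ ∈ H) (x : alternatingGroup (Fin 5)) : x ∈ H := by
  have e := (alternatingGroup.isSimpleGroup_five.eq_bot_or_eq_top_of_normal (normalClosure {a})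
    inferInstance).resolve_left fun e => a1 (mem_bot.1 (e ▸ subset_normalClosure rfl))
  refine (closure_le H).2 (fun y hy => ?_) (e.ge (mem_top x))
  obtain ⟨_, rfl, k⟩ := Group.mem_conjugatesOfSet_iff.1 hy
  obtain ⟨b, rfl⟩ := isConj_iff.1 k
  exact h b

theorem gja_cent {a e : alternatingGroup (Fin 5)} (a1 : a ≠ 1)
    (h : ∀ b, e * (b * a * b⁻¹) = b * a * b⁻¹ * e) : e = 1 := by
  have := mem_center_iff.2 fun x => mem_centralizer_singleton_iff.1
    (gja_gen a1 (H := centralizer {e}) (fun b => mem_centralizer_singleton_iff.2 (h b).symm) x)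
  rwa [alternatingGroup.center_eq_bot (by simp), mem_bot] at this

theorem gja_ord {p : ℕ} (hp : p.Prime) (h : p ∣ 60) : ∃ a : alternatingGroup (Fin 5), orderOf a = p := by
  have := Fact.mk hp
  refine exists_prime_orderOf_dvd_card' p ?_
  have := two_mul_nat_card_alternatingGroup (α := Fin 5)
  rw [Nat.card_perm, Nat.card_fin, show Nat.factorial 5 = 2 * 60 from rfl] at this
  rwa [Nat.eq_of_mul_eq_mul_left two_pos this]

variable {L : Type*} [Group L] (J : JL L)
include J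

theorem JL.gja_conj {a b : L} (h : MulAut.conj a = MulAut.conj b) : a = b :=
  (inv_mul_eq_one.1 (J.central (b⁻¹ * a) fun x => by
    have e : a * x * a⁻¹ = b * x * b⁻¹ := DFunLike.congr_fun h x
    calc b⁻¹ * a * x = b⁻¹ * (a * x * a⁻¹) * a := by group
      _ = _ := by rw [e]; group)).symm

theorem JL.gja_inv {u : L} (h1 : MulAut.conj u * MulAut.conj u = 1) (h2 : MulAut.conj u ≠ 1) :
    u * u = 1 ∧ u ≠ 1 :=
  ⟨J.gja_conj (by rw [map_mul, h1, map_one]), fun e => h2 (by rw [e, map_one])⟩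

theorem JL.gj_ind (φ : MulAut L) (h1 : φ * φ = 1) (h2 : φ ≠ 1) (w w' : L) (o : Odd (orderOf w))
    (o' : Odd (orderOf w')) (c : φ w = w) (c' : φ w' = w')
    (h : ∀ a, φ a = a → w' * (a * w * a⁻¹) * w'⁻¹ * (a * w * a⁻¹)⁻¹ ∈ center L) :
    w ∈ center L ∨ w' ∈ center L := by
  obtain ⟨u, rfl⟩ := J.inner φ
  obtain ⟨uu, u1⟩ := J.gja_inv h1 h2
  obtain ⟨f, inj, -, hc⟩ := J.cen u uu u1
  have odd : ∀ w : L, Odd (orderOf w) → MulAut.conj u w = w → w ∈ f.range := fun w ⟨k, hk⟩ c => by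
    have c1 : Commute u w := mul_inv_eq_iff_eq_mul.1 c
    refine ((hc w).1 c1.eq.symm).elim id fun m => ?_
    have := pow_mem m (2 * (k + 1))
    rwa [c1.mul_pow, pow_mul u, sq, uu, one_pow, one_mul, show 2 * (k + 1) = orderOf w + 1 by omega, pow_succ,
      pow_orderOf_eq_one, one_mul] at this
  obtain ⟨a, rfl⟩ := odd w o c
  obtain ⟨a', rfl⟩ := odd w' o' c'
  by_cases a1 : a = 1
  · exact Or.inl (by rw [a1, map_one]; exact one_mem _)
  refine Or.inr ?_
  rw [gja_cent a1 (e := a') fun b => inj ?_, map_one]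
  · exact one_mem _
  have := J.central _ fun x => (mem_center_iff.1
    (h (f b) (mul_inv_eq_iff_eq_mul.2 ((hc _).2 (Or.inl ⟨b, rfl⟩)).symm)) x).symm
  rw [mul_inv_eq_one, mul_inv_eq_iff_eq_mul] at this
  simpa only [map_mul, map_inv] using this

theorem JL.gj_fix (φ ψ : MulAut L) (h1 : φ * φ = 1) (h2 : φ ≠ 1) (c : Commute ψ φ) (h3 : Two ψ)
    (h : ∀ v ∈ Wf φ, Two v → ψ v = v) : ψ = 1 ∨ ψ = φ := by
  obtain ⟨u, rfl⟩ := J.inner φ
  obtain ⟨g, rfl⟩ := J.inner ψ
  obtain ⟨uu, u1⟩ := J.gja_inv h1 h2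
  obtain ⟨f, inj, -, hc⟩ := J.cen u uu u1
  have cu : ∀ b, Commute u (f b) := fun b => ((hc _).2 (Or.inl ⟨b, rfl⟩)).symm
  have gu : g * u = u * g := J.gja_conj (by rw [map_mul, map_mul, c.eq])
  obtain ⟨a, ha⟩ := gja_ord Nat.prime_three (by norm_num)
  obtain ⟨i, hi⟩ := gja_ord Nat.prime_two (by norm_num)
  have i1 : i ≠ 1 := fun e => by simp [e] at hi
  have hW : ∀ x, f x ∈ Wf (MulAut.conj u) := gja_gen (a := a) (fun e => by simp [e] at ha)
    (H := (Wf (MulAut.conj u)).comap f) fun b => mem_Wf_conj (by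
      rw [orderOf_injective f inj, show orderOf (b * a * b⁻¹) = orderOf a from (MulAut.conj b).orderOf_eq a, ha]
      decide) (cu _)
  have cg : ∀ b, Commute g (f (b * i * b⁻¹)) := fun b => mul_inv_eq_iff_eq_mul.1 (h _ (hW _) ⟨1, by
    rw [← map_pow, conj_pow, pow_one, ← hi, pow_orderOf_eq_one, mul_one, mul_inv_cancel, map_one]⟩)
  rcases (hc g).1 gu with ⟨e, rfl⟩ | ⟨e, he⟩
  · rw [gja_cent i1 (e := e) fun b => inj (by rw [map_mul, map_mul f _ e, (cg b).eq]), map_one, map_one]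
    exact Or.inl rfl
  · rw [gja_cent i1 (e := e) fun b => inj (by
      rw [map_mul, map_mul f _ e, he, ((cu _).mul_left (cg b)).eq]), map_one] at he
    rw [eq_inv_of_mul_eq_one_right he.symm, inv_eq_of_mul_eq_one_right uu]
    exact Or.inr rfl

end CfsgLib.J1S
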