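import Mathlib
import Cfsg.Agent.Lib.J1S.Jb
import Cfsg.Agent.Lib.StdW.Pair
import Cfsg.Agent.Lib.Lyons.Loc2

/-! Standard subgroup `J₁` (plans/J1S.md, package GJB). -/

set_option autoImplicit false
set_option linter.unusedSectionVars false

namespace CfsgLib.J1S

open Subgroup Cfsg CfsgLib.Tech CfsgLib.StdInt

theorem gjb_a5 : ∃ c r r' : alternatingGroup (Fin 5), c ^ 3 = 1 ∧ c ≠ 1 ∧ r * r = 1 ∧ r' * r' = 1 ∧ r ≠ 1 ∧
    r' ≠ 1 ∧ r ≠ r' ∧ r' * r = r * r' ∧ c * r ≠ r * c := by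
  refine ⟨⟨Equiv.swap 0 1 * Equiv.swap 1 2, by simp [Equiv.Perm.mem_alternatingGroup]⟩,
    ⟨Equiv.swap 0 1 * Equiv.swap 2 3, by simp [Equiv.Perm.mem_alternatingGroup]⟩,
    ⟨Equiv.swap 0 2 * Equiv.swap 1 3, by simp [Equiv.Perm.mem_alternatingGroup]⟩,
    Subtype.ext (by decide), fun h => ?_, Subtype.ext (by decide), Subtype.ext (by decide), fun h => ?_,
    fun h => ?_, fun h => ?_, Subtype.ext (by decide), fun h => ?_⟩ <;>
  · have := congrArg Subtype.val h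
    revert this
    decide

variable {L : Type*} [Group L] (J : JL L)

theorem gjb_wf (u : L) (ϕ : alternatingGroup (Fin 5) →* L) (hc : ∀ a, ϕ a * u = u * ϕ a) (a : alternatingGroup (Fin 5)) :
    ϕ a ∈ Wf (MulAut.conj u) := by
  obtain ⟨c, -, -, c3, c1, -⟩ := gjb_a5
  have h1 : normalClosure ({c} : Set (alternatingGroup (Fin 5))) = ⊤ :=
    (IsSimpleGroup.eq_bot_or_eq_top_of_normal _ inferInstance).resolve_left fun h =>
      c1 (mem_bot.1 (h ▸ subset_normalClosure (Set.mem_singleton c)))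
  have h2 : normalClosure ({c} : Set (alternatingGroup (Fin 5))) ≤ (Wf (MulAut.conj u)).comap ϕ := by
    unfold normalClosure
    rw [closure_le]
    intro x hx
    obtain ⟨b, hb, hbx⟩ := Group.mem_conjugatesOfSet_iff.1 hx
    obtain rfl : b = c := hb
    obtain ⟨g, rfl⟩ := isConj_iff.1 hbx
    refine subset_closure ⟨?_, ?_⟩
    · refine Odd.of_dvd_nat (by decide : Odd 3) (orderOf_dvd_of_pow_eq_one ?_)
      rw [← map_pow, conj_pow, c3, mul_one, mul_inv_cancel, map_one]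
    · rw [MulAut.conj_apply, ← hc, mul_inv_cancel_right]
  exact h2 (h1 ▸ mem_top a)

include J

theorem JL.gjb_cen {P Q : Subgroup L} (h4 : P ≤ normalizer (Q : Set L))
    (h6 : ∀ r ∈ Q, r * r = 1 → r ≠ 1 → centralizer {r} ≤ P) {r r' : L} (hr : r ∈ Q) (hr' : r' ∈ Q)
    (rr : r * r = 1) (r1 : r ≠ 1) (r1' : r' ≠ 1) (ne : r ≠ r') (c : r' * r = r * r') {x : L}
    (hx : x * r = r * x) : x ∈ Q := by
  obtain ⟨ϕ, -, -, hc⟩ := J.cen r rr r1
  have hb : ∃ b, b ≠ 1 ∧ ϕ b ∈ Q := by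
    rcases (hc r').1 c with ⟨b, hb⟩ | ⟨b, hb⟩
    · exact ⟨b, fun h => r1' (by rw [← hb, h, map_one]), hb ▸ hr'⟩
    · refine ⟨b, fun h => ne ?_, hb ▸ mul_mem hr hr'⟩
      rw [h, map_one] at hb
      exact mul_left_cancel (rr.trans hb)
  obtain ⟨b, b1, hb⟩ := hb
  have hn : (Q.comap ϕ).Normal := ⟨fun n hn a => by
    rw [mem_comap, map_mul, map_mul, map_inv]
    exact conj_mem_of_mem_normalizer
      (h4 (h6 r hr rr r1 (mem_centralizer_singleton_iff.2 ((hc _).2 (Or.inl ⟨a, rfl⟩))))) hn⟩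
  have ht : Q.comap ϕ = ⊤ := (IsSimpleGroup.eq_bot_or_eq_top_of_normal _ hn).resolve_left fun h =>
    b1 (mem_bot.1 (h ▸ (show b ∈ Q.comap ϕ from hb)))
  have hall : ∀ a, ϕ a ∈ Q := fun a => (show a ∈ Q.comap ϕ from ht ▸ mem_top a)
  rcases (hc x).1 hx with ⟨a, rfl⟩ | ⟨a, ha⟩
  · exact hall a
  · exact (Q.mul_mem_cancel_left hr).1 (ha ▸ hall a)

theorem JL.gj_gen (φ : MulAut L) (h1 : φ * φ = 1) (h2 : φ ≠ 1) (P Q : Subgroup L) (h3 : Q ≤ P)
    (h4 : P ≤ normalizer (Q : Set L)) (h5 : Wf φ ≤ Q)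
    (h6 : ∀ r ∈ Q, r * r = 1 → r ≠ 1 → centralizer {r} ≤ P) : Q = ⊤ := by
  have := J.finite
  have := J.simple
  have : Fact (Nat.Prime 2) := ⟨Nat.prime_two⟩
  obtain ⟨u, rfl⟩ := J.inner φ
  have uu : u * u = 1 := J.central _ fun a => by
    have := MulEquiv.congr_fun ((map_mul MulAut.conj u u).trans h1) a
    rw [MulAut.conj_apply, MulAut.one_apply] at this
    exact mul_inv_eq_iff_eq_mul.1 this
  have u1 : u ≠ 1 := fun h => h2 (by rw [h, map_one])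
  obtain ⟨ϕ, inj, -, hc⟩ := J.cen u uu u1
  have hQ : ∀ a, ϕ a ∈ Q := fun a => h5 (gjb_wf u ϕ (fun a => (hc _).2 (Or.inl ⟨a, rfl⟩)) a)
  obtain ⟨c0, r0, r0', -, -, rr, rr', r1, r1', ne, cm, nc⟩ := gjb_a5
  have e1 : ϕ r0 * ϕ r0 = 1 := by rw [← map_mul, rr, map_one]
  have e1' : ϕ r0' * ϕ r0' = 1 := by rw [← map_mul, rr', map_one]
  have e2 : ϕ r0 ≠ 1 := fun h => r1 (inj (h.trans (map_one ϕ).symm))
  have e2' : ϕ r0' ≠ 1 := fun h => r1' (inj (h.trans (map_one ϕ).symm))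
  have e3 : ϕ r0 ≠ ϕ r0' := fun h => ne (inj h)
  have e4 : ϕ r0' * ϕ r0 = ϕ r0 * ϕ r0' := by rw [← map_mul, cm, map_mul]
  have hr := hQ r0
  have hC : ∀ x, x * ϕ r0 = ϕ r0 * x → x ∈ Q := fun x hx => J.gjb_cen h4 h6 hr (hQ r0') e1 e2 e2' e3 e4 hx
  have rk : Bender.Rank2 L := ⟨_, _, e2, e2', e3, e1, e1', e4.symm⟩
  generalize ϕ r0 = r at e1 e2 hr hC
  obtain ⟨S, hS⟩ := (isPGroup_zpowers_of_pow (p := 2) (k := 1) (x := r) (by rw [pow_one, sq, e1])).exists_le_sylow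
  have rS : r ∈ (S : Subgroup L) := hS (mem_zpowers r)
  have el : ∀ s ∈ (S : Subgroup L), s * s = 1 := fun s hs => J.sq_of_two (isPGroup_iff_mem.1 S.isPGroup' s hs)
  have ab : ∀ s ∈ (S : Subgroup L), ∀ a ∈ (S : Subgroup L), s * a = a * s := fun s hs a ha => by
    have h := el _ (mul_mem hs ha)
    rw [← inv_eq_of_mul_eq_one_right h, mul_inv_rev, inv_eq_of_mul_eq_one_right (el s hs),
      inv_eq_of_mul_eq_one_right (el a ha)]
  have hv : ∀ v ∈ (S : Subgroup L), v ≠ 1 → ∀ x, x * v = v * x → x ∈ Q := fun v hv v1 x hx => by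
    by_cases e : v = r
    · exact hC x (e ▸ hx)
    · exact J.gjb_cen h4 h6 (hC v (ab v hv r rS)) hr (el v hv) v1 e2 e (ab r rS v hv) hx
  let Q0 : Subgroup L := closure {x | ∃ v ∈ (S : Subgroup L), v ≠ 1 ∧ x * v = v * x}
  have hQ0 : Q0 ≤ Q := (closure_le _).2 fun x ⟨v, hv', v1, hx⟩ => hv v hv' v1 x hx
  by_cases hM : normalizer (Q0 : Set L) = ⊤
  · have ht : Q0 = ⊤ := (IsSimpleGroup.eq_bot_or_eq_top_of_normal _ (normalizer_eq_top_iff.1 hM)).resolve_left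
      fun h => e2 (mem_bot.1 (h ▸ (subset_closure ⟨r, rS, e2, rfl⟩ : r ∈ Q0)))
    exact eq_top_iff.2 (ht ▸ hQ0)
  exfalso
  have o2 : orderOf r = 2 := orderOf_eq_prime (by rw [sq, e1]) e2
  have hse := Lyons.se_of S (fun t ht _ a ha => ab t ht a ha) ⟨r, rS, o2⟩ hM (fun g hg => ?_) (fun s hs o x hx => ?_)
  · have hsol := StdW.solvable_of_se hse rk
    obtain ⟨ψ, inj', -, hc'⟩ := J.cen r e1 e2
    have hm : ∀ a, ψ a ∈ normalizer (Q0 : Set L) := fun a =>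
      le_normalizer (subset_closure ⟨r, rS, e2, (hc' _).2 (Or.inl ⟨a, rfl⟩)⟩ : ψ a ∈ Q0)
    have : Group.IsSolvable (alternatingGroup (Fin 5)) :=
      Group.isSolvable_of_isSolvable_injective (f := ψ.codRestrict _ hm)
        fun a b h => inj' (congrArg Subtype.val h)
    exact nc (IsSimpleGroup.comm_iff_isSolvable.2 this c0 r0)
  · refine mem_normalizer_of_forall fun x hx => ?_
    have : Q0 ≤ Q0.comap (MulAut.conj g).toMonoidHom := (closure_le _).2 fun y ⟨v, hv', v1, hy⟩ =>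
      subset_closure ⟨g * v * g⁻¹, conj_mem_of_mem_normalizer hg hv', fun h => v1 (by simpa using h), by
        change g * y * g⁻¹ * (g * v * g⁻¹) = g * v * g⁻¹ * (g * y * g⁻¹)
        rw [conj_mul, hy, conj_mul]⟩
    exact this hx
  · refine le_normalizer (subset_closure ⟨s, hs, fun h => ?_, mem_centralizer_singleton_iff.1 hx⟩ : x ∈ Q0)
    rw [h, orderOf_one] at o
    exact absurd o (by decide)

end CfsgLib.J1S
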