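import Mathlib
import Cfsg.Agent.Lib.J1S.Defs
import Cfsg.Agent.Lib.J1.Iso
import Cfsg.Agent.Lib.StdInt.Cover
import Cfsg.Agent.Lib.Transfer.Thompson
import Cfsg.Agent.S2065

/-! Standard subgroup `J₁` (plans/J1S.md, package JL). -/

set_option autoImplicit false
set_option linter.unusedSectionVars false

namespace CfsgLib.J1S

open Subgroup Cfsg CfsgLib.Tech CfsgLib.StdInt

theorem jl_a5 : ∀ p : alternatingGroup (Fin 5), p * p = 1 → p ≠ 1 → ∃ q, q * p * q⁻¹ = Dickson.a5a := by
  decide +kernel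

theorem jl_a5' : Dickson.a5a * Dickson.a5b ≠ Dickson.a5b * Dickson.a5a := by decide +kernel

theorem jl_of_iso {L : Type*} [Group L] (h : Spor.IsoJ1 L) : JL L := by
  obtain ⟨hs, hc⟩ := J1.isJ1_of_iso h
  have : Finite L := Nat.finite_of_card_ne_zero (by rw [hc]; decide)
  obtain ⟨t, ht, ⟨e⟩⟩ := J1.exists_cent h
  have tt : t * t = 1 := by rw [← pow_two, ← ht, pow_orderOf_eq_one]
  have t1 : t ≠ 1 := fun x => by simp [x] at ht
  obtain ⟨φ, hφ⟩ : ∃ φ : alternatingGroup (Fin 5) →* L, ∀ a, φ a = e.symm (1, a) :=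
    ⟨(centralizer {t}).subtype.comp (e.symm.toMonoidHom.comp (MonoidHom.inr _ _)), fun _ => rfl⟩
  have inj : Function.Injective φ := fun a b x => by
    rw [hφ, hφ] at x
    exact (Prod.ext_iff.1 (e.symm.injective (Subtype.ext x))).2
  have φt : ∀ a, φ a * t = t * φ a := fun a => by
    rw [hφ]
    exact mem_centralizer_singleton_iff.1 (e.symm (1, a)).2
  have ct : t ∈ centralizer ({t} : Set L) := mem_centralizer_singleton_iff.2 rfl
  have mem : ∀ c : centralizer ({t} : Set L), (e c).1 = 1 → (c : L) ∈ φ.range := fun c h1 =>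
    ⟨(e c).2, by rw [hφ, ← h1, Prod.mk.eta, e.symm_apply_apply]⟩
  have tn : t ∉ φ.range := by
    rintro ⟨a, ha⟩
    have : a ∈ center _ := mem_center_iff.2 fun b => inj (by rw [map_mul, map_mul, ha, φt])
    rw [alternatingGroup.center_eq_bot (by simp), mem_bot] at this
    exact t1 (by rw [← ha, this, map_one])
  have z2 : ∀ x y : Multiplicative (ZMod 2), x ≠ 1 → (y = 1 ∨ x * y = 1) := by decide
  have key : ∀ c, c * t = t * c ↔ (c ∈ φ.range ∨ t * c ∈ φ.range) := fun c => by
    constructor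
    · intro x
      have cc := mem_centralizer_singleton_iff.2 x
      refine (z2 (e ⟨t, ct⟩).1 (e ⟨c, cc⟩).1 fun y => tn (mem _ y)).imp (mem _) fun y => ?_
      exact mem (⟨t, ct⟩ * ⟨c, cc⟩) (by rw [map_mul]; exact y)
    · rintro (⟨a, rfl⟩ | ⟨a, ha⟩)
      · exact φt a
      · have := φt a
        rw [ha] at this
        exact mul_left_cancel (a := t) (by rw [← mul_assoc, this])
  have cC : Nat.card (centralizer ({t} : Set L)) = 120 := by
    rw [Nat.card_congr e.toEquiv, Nat.card_prod, Dickson.card_A5]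
    simp
  have cR : Nat.card φ.range = 60 := by
    rw [← Nat.card_congr (MonoidHom.ofInjective inj).toEquiv, Dickson.card_A5]
  have i1 := card_mul_index (centralizer ({t} : Set L))
  have i2 := card_mul_relIndex' (H := φ.range) (K := centralizer ({t} : Set L)) (by
    rintro _ ⟨a, rfl⟩
    exact mem_centralizer_singleton_iff.2 (φt a))
  rw [cC, hc] at i1
  rw [cC, cR] at i2
  have n2 : ∀ M : Subgroup L, M.index ≠ 2 := fun M x => by
    rcases (normal_of_index_eq_two x).eq_bot_or_eq_top with rfl | rfl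
    · rw [index_bot, hc] at x
      omega
    · simp at x
  have one : ∀ a : L, a * a = 1 → a ≠ 1 → IsConj a (φ Dickson.a5a) := fun a aa a1 => by
    obtain ⟨g, p, hp⟩ := Transfer.exists_conj_mem_of_no_index_two n2 (H := centralizer ({t} : Set L)) (Q := φ.range)
      (by omega) (by omega) (orderOf_eq_prime (by rw [pow_two, aa]) a1)
    obtain ⟨q, hq⟩ := jl_a5 p (inj (by rw [map_mul, hp, conj_mul, aa, map_one, mul_one, mul_inv_cancel]))
      (fun x => a1 (by rw [x, map_one, eq_comm, conj_eq_one_iff] at hp; exact hp))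
    exact (isConj_iff.2 ⟨g, hp.symm⟩).trans (isConj_iff.2 ⟨φ q, by rw [← hq, map_mul, map_mul, map_inv]⟩)
  refine ⟨hs, fun x => jl_a5' (inj ?_), hc, (inner_of_out Agent.S2065.result).map h.some.symm,
    fun a b aa bb a1 b1 => (one a aa a1).trans (one b bb b1).symm, fun z zz z1 => ?_⟩
  · rw [map_mul, map_mul]
    exact x.is_comm.comm _ _
  · obtain ⟨g, rfl⟩ := isConj_iff.1 ((one t tt t1).trans (one z zz z1).symm)
    have mr : ∀ c, c ∈ ((MulAut.conj g).toMonoidHom.comp φ).range ↔ g⁻¹ * c * g ∈ φ.range := fun c =>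
      ⟨fun ⟨a, ha⟩ => ⟨a, by rw [← ha]; simp [mul_assoc]⟩, fun ⟨a, ha⟩ => ⟨a, by simp [ha, mul_assoc]⟩⟩
    refine ⟨(MulAut.conj g).toMonoidHom.comp φ, (MulAut.conj g).injective.comp inj, fun x => tn ?_, fun c => ?_⟩
    · simpa [mul_assoc] using (mr _).1 x
    · rw [mr, mr, show g⁻¹ * (g * t * g⁻¹ * c) * g = t * (g⁻¹ * c * g) by group, ← key]
      constructor
      · intro x
        calc g⁻¹ * c * g * t = g⁻¹ * (c * (g * t * g⁻¹)) * g := by group
          _ = _ := by rw [x]; group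
      · intro x
        calc c * (g * t * g⁻¹) = g * (g⁻¹ * c * g * t) * g⁻¹ := by group
          _ = _ := by rw [x]; group

end CfsgLib.J1S
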