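import Mathlib
import Cfsg.Agent.Lib.J1S.Defs
import Cfsg.Agent.Lib.WD.Red
import Cfsg.Agent.Lib.SzS.Fin

/-! Standard subgroup `J₁` (plans/J1S.md, package RED). -/

set_option autoImplicit false
set_option linter.unusedSectionVars false

namespace CfsgLib.J1S

open Subgroup Cfsg CfsgLib.Tech CfsgLib.StdInt

variable {L G : Type*} [Group L] [Group G] [Finite G]

theorem mkW0 {A : Subgroup G} (hA : IsStandardSubgroup A) (cen : ∀ l : A, (∀ a, l * a = a * l) → l = 1)
    (inner : Inner A) {t : G} (tK : t ∈ centralizer (A : Set G)) (sq : t * t = 1) (ne : t ≠ 1)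
    (two : ∀ k ∈ centralizer (A : Set G), Two k → Commute k t → k = 1 ∨ k = t) : ∃ Y, W0 A.subtype t Y := by
  obtain ⟨O, h1, h2⟩ := WD.cs2 (X := centralizer (A : Set G) ⊓ centralizer {t}) (Z := zpowers t)
    (zpowers_le.2 ⟨tK, mem_centralizer_singleton_iff.2 rfl⟩)
    (isPGroup_zpowers_of_pow (k := 1) (by rw [pow_one, pow_two, sq]))
    (by
      rintro x hx _ ⟨k, rfl⟩
      exact (Commute.zpow_right (mem_centralizer_singleton_iff.1 hx.2) k).eq)
    fun x hx h => by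
      rcases two x hx.1 h (mem_centralizer_singleton_iff.1 hx.2) with rfl | rfl
      exacts [one_mem _, mem_zpowers _]
  have yt : ∀ y ∈ O, y * t = t * y := fun y hy => mem_centralizer_singleton_iff.1 ((h1 y).1 hy).1.2
  refine ⟨O, Subtype.val_injective, sq, ne, fun l => (tK _ l.2).symm,
    fun y hy => ((h1 y).1 hy).2, yt, fun y hy l => (((h1 y).1 hy).1.1 _ l.2).symm, cen, fun g hg => ?_⟩
  obtain ⟨l, ha⟩ := inner (aut (norm_of_even hA tK sq ne (c := g) hg))
  have h3 : Commute (l : G) t := tK _ l.2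
  obtain ⟨_, ⟨k, rfl⟩, o, ho, h4⟩ := h2 _ ⟨(aut_eq_conj _ _).1 ha, mem_centralizer_singleton_iff.2
    ((show Commute g t from hg).mul_left h3.inv_left).eq⟩
  have h5 : t ^ (2 : ℤ) = 1 := by rw [zpow_two, sq]
  refine ⟨o, ho, l, ?_⟩
  rw [mul_inv_eq_iff_eq_mul] at h4
  obtain ⟨j, rfl | rfl⟩ := k.even_or_odd'
  · exact .inl (by simpa [zpow_mul, h5] using h4)
  · refine .inr (h4.trans ?_)
    simp only [zpow_add_one, zpow_mul, h5, one_zpow, one_mul]
    rw [← yt o ho, mul_assoc, ← h3.eq, ← mul_assoc]; rfl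

theorem W0.restrict {ρ : L →* G} {t : G} {Y : Subgroup G} (w : W0 ρ t Y) {H : Subgroup G} (tH : t ∈ H)
    (hH : ∀ l, ρ l ∈ H) : W0 (ρ.codRestrict H hH) ⟨t, tH⟩ (Y.subgroupOf H) := by
  refine ⟨fun a b h => w.inj (congrArg Subtype.val h), Subtype.ext w.sq,
    fun h => w.ne (congrArg Subtype.val h), fun l => Subtype.ext (w.comm l), fun y hy => ?_,
    fun y hy => Subtype.ext (w.yt y hy), fun y hy l => Subtype.ext (w.yl y hy l), w.cen, fun g hg => ?_⟩
  · rw [← Subgroup.orderOf_coe]; exact w.yodd y hy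
  · obtain ⟨y, hy, l, h⟩ := w.dec g (congrArg Subtype.val hg)
    have yH : y ∈ H := by
      rcases h with h | h
      · rw [show y = g * (ρ l)⁻¹ by rw [h]; group]
        exact mul_mem g.2 (inv_mem (hH l))
      · rw [show y = g * t⁻¹ * (ρ l)⁻¹ by rw [h]; group]
        exact mul_mem (mul_mem g.2 (inv_mem tH)) (inv_mem (hH l))
    exact ⟨⟨y, yH⟩, hy, l, h.imp Subtype.ext Subtype.ext⟩

theorem top_of {E : Subgroup G} (hN : E.Normal) (hs : IsSimpleGroup E) (nab : ¬ IsMulCommutative E)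
    (cE : centralizer (E : Set G) = ⊥) {t : G} (tt : t * t = 1) :
    SzS.Top (⟨t, mem_sup_left (mem_zpowers t)⟩ : ↥(zpowers t ⊔ E)) (E.subgroupOf (zpowers t ⊔ E)) ∧
      IsSimpleGroup (E.subgroupOf (zpowers t ⊔ E)) ∧ ¬ IsMulCommutative (E.subgroupOf (zpowers t ⊔ E)) ∧
      centralizer (E.subgroupOf (zpowers t ⊔ E) : Set ↥(zpowers t ⊔ E)) = ⊥ := by
  have tG : t ∈ zpowers t ⊔ E := mem_sup_left (mem_zpowers t)
  have LG : E ≤ zpowers t ⊔ E := le_sup_right
  have eL := subgroupOfEquivOfLe LG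
  have gen : ∀ g : ↥(zpowers t ⊔ E), g ∈ E.subgroupOf (zpowers t ⊔ E) ∨
      ⟨t, tG⟩ * g ∈ E.subgroupOf (zpowers t ⊔ E) := by
    rintro ⟨g, hg⟩
    obtain ⟨a, ⟨k, rfl⟩, l, hl, rfl⟩ := mem_sup_of_normal_right.1 hg
    have h5 : t ^ (2 : ℤ) = 1 := by rw [zpow_two, tt]
    obtain ⟨j, rfl | rfl⟩ := k.even_or_odd'
    · exact Or.inl (show t ^ (2 * j) * l ∈ E by rwa [zpow_mul, h5, one_zpow, one_mul])
    · exact Or.inr (show t * (t ^ (2 * j + 1) * l) ∈ E by
        rwa [zpow_add_one, zpow_mul, h5, one_zpow, one_mul, ← mul_assoc, tt, one_mul])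
  have hs' : IsSimpleGroup (E.subgroupOf (zpowers t ⊔ E)) := eL.isSimpleGroup
  have hn' : ¬ IsMulCommutative (E.subgroupOf (zpowers t ⊔ E)) := fun h =>
    nab ⟨⟨fun a b => eL.symm.injective (by rw [map_mul, map_mul]; exact h.is_comm.comm _ _)⟩⟩
  refine ⟨⟨inferInstance, fun N hN => ?_, gen⟩, hs', hn',
    eq_bot_iff.2 fun x hx => Subtype.ext (mem_bot.1 (cE ▸ show (x : G) ∈ centralizer (E : Set G) from
      fun a ha => congrArg Subtype.val (hx ⟨a, LG ha⟩ ha)))⟩
  have := normal_of_index_eq_two hN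
  rcases hs'.eq_bot_or_eq_top_of_normal (N.subgroupOf (E.subgroupOf (zpowers t ⊔ E))) inferInstance with e | e
  · have h3 : N.relIndex (E.subgroupOf (zpowers t ⊔ E)) ∣ 2 := hN ▸ relIndex_dvd_index_of_normal N _
    rw [relIndex, e, index_bot] at h3
    have := isCyclic_of_card_dvd_prime h3
    exact (hn' inferInstance).elim
  · exact subgroupOf_eq_top.1 e

theorem cent_fstar (hF : IsSimpleGroup (generalizedFittingSubgroup G))
    (hF' : ¬IsMulCommutative (generalizedFittingSubgroup G)) :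
    centralizer (generalizedFittingSubgroup G : Set G) = ⊥ := by
  refine eq_bot_iff.2 fun x hx => mem_bot.2 ?_
  exact congrArg Subtype.val (WD.cen_of_simple hF hF' ⟨x, Comp.centralizer_fstar_le hx⟩
    fun a => Subtype.ext (hx a a.2).symm)

end CfsgLib.J1S
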