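import Mathlib
import Cfsg.Agent.Lib.J1S.Defs
import Cfsg.Agent.Lib.StdW.Pair

/-! Standard subgroup `J₁` (plans/J1S.md, package TW): commuting pairs, after Lib/StdW. -/

set_option autoImplicit false
set_option linter.unusedSectionVars false

namespace CfsgLib.J1S

open Subgroup Cfsg CfsgLib.StdInt CfsgLib.StdW

variable {G : Type*} [Group G]

/-- the ambient form of `GoodW`; `N` is the common normaliser of `L` and its centraliser `K` -/
structure Am (L K N : Subgroup G) : Prop where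
  comm : ∀ l ∈ L, ∀ k ∈ K, Commute l k
  cen : ∀ x ∈ L, x ∈ K → Odd (orderOf x)
  nrm : ∀ r ∈ K, r * r = 1 → r ≠ 1 → ∀ c, Commute c r → c ∈ N
  nL : ∀ c ∈ N, ∀ l ∈ L, c * l * c⁻¹ ∈ L
  nK : ∀ c ∈ N, ∀ k ∈ K, c * k * c⁻¹ ∈ K
  lN : L ≤ N
  kN : K ≤ N
  dec : ∀ h ∈ N, ∃ l ∈ L, ∃ k ∈ K, h = l * k
  ind : ∀ s ∈ N, s * s = 1 → s ∉ K → ∀ w ∈ L, ∀ w' ∈ L, Odd (orderOf w) → Odd (orderOf w') → Commute s w →
    Commute s w' → (∀ a ∈ L, Commute s a → w' * (a * w * a⁻¹) * w'⁻¹ * (a * w * a⁻¹)⁻¹ ∈ K) → w ∈ K ∨ w' ∈ K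
  gen : ∀ s ∈ N, s * s = 1 → s ∉ K → ∀ Q M : Subgroup G, Q ≤ M → (∀ c ∈ M, ∀ q ∈ Q, c * q * c⁻¹ ∈ Q) → WG L s ≤ Q →
    (∀ r ∈ Q, r * r = 1 → r ≠ 1 → ∀ c, Commute c r → c ∈ M) → L ≤ Q
  fix : ∀ s ∈ N, s * s = 1 → s ∉ K → ∀ c ∈ N, Commute c s → Two c → (∀ v ∈ WG L s, Two v → Commute c v) →
    c ∈ K ∨ c * s ∈ K

variable {L K N L' K' N' : Subgroup G} {t s : G}

theorem am_of [Finite G] (hL : IsStandardSubgroup L) (h : GoodJ L) :
    Am L (centralizer (L : Set G)) (normalizer (L : Set G)) where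
  comm l hl k hk := mem_cent.1 hk l hl
  cen x h1 h2 := by
    have := h.cen ⟨x, h1⟩ (mem_cen.2 h2)
    rwa [← orderOf_coe] at this
  nrm r h1 h2 h3 c hc := norm_of_even hL h1 h2 h3 hc
  nL c hc l hl := (mem_normalizer_iff.1 hc l).1 hl
  nK c hc l hl := (mem_normalizer_iff.1 (hL.2.2.2 ▸ hc) l).1 hl
  lN := le_normalizer
  kN := centralizer_le_normalizer _
  dec c h1 := by
    obtain ⟨l, e⟩ := h.inner (aut h1)
    have h2 := (aut_eq_conj h1 l).1 e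
    exact ⟨l, l.2, _, h2, by rw [(mem_cent.1 h2 l l.2).eq, inv_mul_cancel_right]⟩
  ind s hs h1 h2 w hw w' hw' o o' c c' h3 :=
    (h.ind (aut hs) (by rw [aut_mul, aut_eq_one, h1]; exact one_mem _) (mt (aut_eq_one hs).1 h2) ⟨w, hw⟩ ⟨w', hw'⟩
      (by rwa [← orderOf_coe]) (by rwa [← orderOf_coe]) ((aut_fix hs).2 c) ((aut_fix hs).2 c')
      fun a ha => mem_cen.2 (h3 a a.2 ((aut_fix hs).1 ha))).imp mem_cen.1 mem_cen.1
  gen s hs h1 h2 Q M h3 h4 h5 h6 :=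
    subgroupOf_eq_top.1 (h.gen (aut hs) (by rw [aut_mul, aut_eq_one, h1]; exact one_mem _)
      (mt (aut_eq_one hs).1 h2) (M.subgroupOf L) (Q.subgroupOf L) (fun x hx => h3 hx)
      (fun c hc => mem_normalizer_fintype fun x hx => h4 c hc x hx) (fun x hx => h5 ((mem_Wf_aut hs).1 hx))
      fun r r1 r2 r3 x hx => h6 r r1 (congrArg Subtype.val r2) (fun e => r3 (Subtype.ext e)) x
        (Commute.map (mem_centralizer_singleton_iff.1 hx) L.subtype))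
  fix s hs h1 h2 c hc h3 h4 h5 := by
    have hi : s⁻¹ = s := inv_eq_of_mul_eq_one_right h1
    refine (h.fix (aut hs) (aut hc) (by rw [aut_mul, aut_eq_one, h1]; exact one_mem _) (mt (aut_eq_one hs).1 h2)
      (show _ * _ = _ * _ by rw [aut_mul, aut_mul]; congr 1) (h4.imp fun k hk => ?_)
      fun v hv h2 => (aut_fix hc).2 (h5 v ((mem_Wf_aut hs).1 hv) (two_coe.2 h2))).imp (aut_eq_one hc).1
      fun e => hi ▸ (aut_eq hc hs).1 e
    rw [aut, ← map_pow, show (⟨c, hc⟩ : normalizer (L : Set G)) ^ 2 ^ k = 1 from Subtype.ext hk, map_one]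

namespace Am

variable (a : Am L K N)
include a

theorem dec1 {h : G} (hh : h ∈ N) (ho : Odd (orderOf h)) :
    ∃ l ∈ L, ∃ k ∈ K, h = l * k ∧ Odd (orderOf l) ∧ Odd (orderOf k) := by
  obtain ⟨l, hl, k, hk, rfl⟩ := a.dec h hh
  have h1 := pow_orderOf_eq_one (l * k)
  rw [(a.comm l hl k hk).mul_pow] at h1
  have h2 := a.cen _ (pow_mem hl _) (eq_inv_of_mul_eq_one_left h1 ▸ inv_mem (pow_mem hk _))
  refine ⟨l, hl, k, hk, rfl, odd_of_pow_odd ho h2, odd_of_pow_odd ho ?_⟩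
  rw [eq_inv_of_mul_eq_one_right h1]
  exact odd_inv h2

theorem dec2 {h : G} (hh : h ∈ N) (ho : Odd (orderOf h)) (hs : s ∈ N) (ss : s * s = 1) (c : Commute s h) :
    ∃ l ∈ L, ∃ k ∈ K, h = l * k ∧ Odd (orderOf l) ∧ Odd (orderOf k) ∧ Commute s l ∧ Commute s k := by
  obtain ⟨l, hl, k, hk, rfl, o1, o2⟩ := a.dec1 hh ho
  have hi : s⁻¹ = s := inv_eq_of_mul_eq_one_right ss
  have e1 : l⁻¹ * (s * l * s⁻¹) = k * (s * k * s⁻¹)⁻¹ := by
    rw [inv_mul_eq_iff_eq_mul, ← mul_assoc, eq_mul_inv_iff_mul_eq, conj_mul, c.eq, mul_inv_cancel_right]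
  have z1 : l⁻¹ * (s * l * s⁻¹) ∈ L := mul_mem (inv_mem hl) (a.nL s hs l hl)
  have z2 : l⁻¹ * (s * l * s⁻¹) ∈ K := e1 ▸ mul_mem hk (inv_mem (a.nK s hs k hk))
  have e2 : s * (l⁻¹ * (s * l * s⁻¹)) * s⁻¹ = (l⁻¹ * (s * l * s⁻¹))⁻¹ := by
    rw [hi, mul_inv_rev, mul_inv_rev, mul_inv_rev, hi, inv_inv]
    simp only [mul_assoc, ss, mul_one]
  have e3 : s * l * s⁻¹ = l * (l⁻¹ * (s * l * s⁻¹)) := by group
  have zo := a.cen _ z1 z2
  generalize l⁻¹ * (s * l * s⁻¹) = z at *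
  obtain ⟨n, hn⟩ := exists_half zo
  have c1 : Commute s (l * z ^ n) := mul_inv_eq_iff_eq_mul.1 (by
    rw [← conj_mul, e3, ← conj_pow, e2, inv_pow, mul_assoc, mul_right_inj, mul_inv_eq_iff_eq_mul, hn])
  refine ⟨l * z ^ n, mul_mem hl (pow_mem z1 n), (z ^ n)⁻¹ * k, mul_mem (inv_mem (pow_mem z2 n)) hk, by group,
    odd_mul (a.comm l hl _ (pow_mem z2 n)) o1 (odd_pow zo n),
    odd_mul (a.comm _ (inv_mem (pow_mem z1 n)) k hk) (odd_inv (odd_pow zo n)) o2, c1, ?_⟩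
  simpa [mul_assoc] using c1.inv_right.mul_right c

/-- an involution inducing an inner automorphism is a product of involutions of `K` and `L` -/
theorem split (ss : s * s = 1) {l : G} (hl : l ∈ L) (h : s * l ∈ K) :
    ∃ k ∈ K, ∃ u ∈ L, s = k * u ∧ k * k = 1 ∧ u * u = 1 := by
  have c := a.comm l hl _ h
  have e1 : (s * l) * (s * l) = l * l := by
    nth_rw 1 [mul_assoc, c.eq, ← mul_assoc, ← mul_assoc, ss, one_mul]
  have z1 := mul_mem hl hl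
  have z2 : l * l ∈ K := e1 ▸ mul_mem h h
  obtain ⟨n, hn⟩ := exists_half (a.cen _ z1 z2)
  have c1 := a.comm _ (pow_mem z1 n) _ h
  have c2 := a.comm l hl _ (pow_mem z2 n)
  have y1 := pow_mem z1 n
  have y2 := pow_mem z2 n
  generalize (l * l) ^ n = y at *
  refine ⟨s * l * y⁻¹, mul_mem h (inv_mem y2), y * l⁻¹, mul_mem y1 (inv_mem hl), by group, ?_, ?_⟩
  · rw [← pow_two, c1.symm.inv_right.mul_pow, pow_two, pow_two, e1, ← hn]; group
  · rw [← pow_two, c2.symm.inv_right.mul_pow, pow_two, pow_two, hn]; group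

theorem WG_mul {k u : G} (hk : k ∈ K) : WG L (k * u) = WG L u := by
  unfold WG
  congr 1
  ext w
  exact and_congr_right fun hw => and_congr_right fun _ => ⟨fun h => by
    simpa using (a.comm w hw k hk).symm.inv_left.mul_left h, fun h => (a.comm w hw k hk).symm.mul_left h⟩

end Am

/-- two conjugates in general position -/
structure Tw (L K N L' K' N' : Subgroup G) : Prop where
  a : Am L K N
  b : Am L' K' N'
  od : ∀ x ∈ K, x ∈ K' → Odd (orderOf x)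
  nle : ¬L ≤ K'
  nle' : ¬L' ≤ K

namespace Tw

variable (p : Tw L K N L' K' N')
include p

theorem symm : Tw L' K' N' L K N := ⟨p.b, p.a, fun x h1 h2 => p.od x h2 h1, p.nle', p.nle⟩

section

variable (i : Iv K K' t s)
include i

theorem sN : s ∈ N := p.a.nrm t i.tK i.tt i.t1 s i.c

theorem sK : s ∉ K := fun h => i.s1 (eq_one_of_odd_sq (p.od s h i.sK) i.ss)

theorem odd_of_good (h : ¬WG L' t ≤ K) {b : G} (hb : b ∈ K') (ho : Odd (orderOf b)) (c1 : Commute b t)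
    (c2 : Commute s b) : b ∈ K := by
  obtain ⟨y, ⟨y1, y2, y3⟩, y4⟩ : ∃ y, (y ∈ L' ∧ Odd (orderOf y) ∧ Commute t y) ∧ y ∉ K := by
    by_contra! h1
    exact h ((closure_le _).2 h1)
  obtain ⟨l, hl, k, hk, rfl, o1, -, c3, -⟩ := p.a.dec2 (p.a.nrm t i.tK i.tt i.t1 y y3.symm) y2 (p.sN i) i.ss
    (p.b.comm y y1 s i.sK).symm
  obtain ⟨x, hx, β, hβ, rfl, o2, -, c4, -⟩ := p.a.dec2 (p.a.nrm t i.tK i.tt i.t1 b c1) ho (p.sN i) i.ss c2
  refine mul_mem ((p.a.ind s (p.sN i) i.ss (p.sK i) l hl x hx o1 o2 c3 c4 fun a ha c => ?_).resolve_left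
    fun e => y4 (mul_mem e hk)) hβ
  have h1 := (p.b.comm _ (p.b.nL a (p.b.nrm s i.sK i.ss i.s1 a c.symm) _ y1) _ hb).eq
  have h2 : a * (l * k) * a⁻¹ = a * l * a⁻¹ * k := by
    rw [mul_assoc _ a⁻¹, (p.a.comm _ (inv_mem ha) k hk).eq]; group
  have h3 := mul_mem (mul_mem ha hl) (inv_mem ha)
  rw [h2] at h1
  generalize a * l * a⁻¹ = m at *
  have h4 : (m * x)⁻¹ * (x * m) = k * β * (β * k)⁻¹ := by
    rw [inv_mul_eq_iff_eq_mul, ← mul_assoc, eq_mul_inv_iff_mul_eq]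
    calc x * m * (β * k) = x * (m * β) * k := by group
      _ = x * β * (m * k) := by rw [(p.a.comm m h3 β hβ).eq]; group
      _ = m * (k * x) * β := by rw [← h1]; group
      _ = _ := by rw [← (p.a.comm x hx k hk).eq]; group
  have h5 := p.a.nK _ (p.a.lN (mul_mem h3 hx)) _ (h4 ▸ mul_mem (mul_mem hk hβ) (inv_mem (mul_mem hβ hk)) :
    (m * x)⁻¹ * (x * m) ∈ K)
  convert h5 using 1
  group

theorem two_of_good (h : ¬WG L' t ≤ K) {v : G} (hv : v ∈ WG L s) (h2 : Two v) : v ∈ WG L' t := by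
  have h1 : ∃ y ∈ WG L' t, ∃ b ∈ K ⊓ K', v = y * b := by
    clear h2
    induction hv using closure_induction with
    | mem w hw =>
      obtain ⟨y, hy, b, hb, rfl, o1, o2, c1, c2⟩ := p.b.dec2 (p.b.nrm s i.sK i.ss i.s1 w hw.2.2.symm) hw.2.1
        (p.symm.sN i.symm) i.tt (p.a.comm w hw.1 t i.tK).symm
      exact ⟨y, subset_closure ⟨hy, o1, c1⟩, b, ⟨p.odd_of_good i h hb o2 c2.symm (by
        simpa using (p.b.comm y hy s i.sK).symm.inv_right.mul_right hw.2.2), hb⟩, rfl⟩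
    | one => exact ⟨1, one_mem _, 1, one_mem _, by simp⟩
    | mul x y _ _ hx hy =>
      obtain ⟨x, hx, b, hb, rfl⟩ := hx
      obtain ⟨y, hy, b', hb', rfl⟩ := hy
      exact ⟨x * y, mul_mem hx hy, b * b', mul_mem hb hb', by
        rw [mul_assoc, ← mul_assoc b, ← (p.b.comm y (WG_le hy).1 b hb.2).eq]; group⟩
    | inv x _ hx =>
      obtain ⟨x, hx, b, hb, rfl⟩ := hx
      exact ⟨x⁻¹, inv_mem hx, b⁻¹, inv_mem hb, by rw [(p.b.comm x (WG_le hx).1 b hb.2).eq, mul_inv_rev]⟩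
  obtain ⟨y, hy, b, hb, rfl⟩ := h1
  refine mem_of_pow_odd h2 (p.od b hb.1 hb.2) ?_
  rw [(p.b.comm y (WG_le hy).1 b hb.2).mul_pow, pow_orderOf_eq_one, mul_one]
  exact pow_mem hy _

end

variable (i : Iv K K' t s)
include i

theorem good : ¬WG L' t ≤ K := fun h =>
  p.nle' (p.b.gen t (p.symm.sN i.symm) i.tt (p.symm.sK i.symm) K N p.a.kN p.a.nK h p.a.nrm)

theorem two_mem {v : G} (hv : v ∈ WG L s) (h2 : Two v) : v ∈ WG L' t := p.two_of_good i (p.good i) hv h2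

theorem two_K {c : G} (hc : c ∈ K) (h2 : Two c) (c1 : Commute c s) (c2 : Commute c t) : c = 1 ∨ c = t := by
  refine (p.b.fix t (p.symm.sN i.symm) i.tt (p.symm.sK i.symm) c (p.b.nrm s i.sK i.ss i.s1 c c1) c2 h2
    fun v hv h => (p.a.comm v (WG_le (p.symm.two_mem i.symm hv h)).1 c hc).symm).imp
    (fun h => eq_one_of_odd_two (p.od c hc h) h2) fun h => ?_
  have := eq_one_of_odd_two (p.od _ (mul_mem hc i.tK) h) (two_mul' c2 h2 (two_of_sq i.tt))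
  rwa [← i.tt, mul_left_inj] at this

theorem exists_two : ∃ t ∈ K, t * t = 1 ∧ t ≠ 1 ∧ ∀ k ∈ K, Two k → Commute k t → k = 1 ∨ k = t := by
  obtain ⟨l, hl, k, hk, e⟩ := p.a.dec s (p.sN i)
  obtain ⟨k, hk, u, hu, rfl, kk, uu⟩ := p.a.split i.ss (inv_mem hl) (by
    rwa [e, (p.a.comm l hl k hk).eq, mul_inv_cancel_right])
  by_cases k1 : k = 1
  · subst k1
    exact ⟨t, i.tK, i.tt, i.t1, fun c hc h2 e => p.two_K i hc h2 (by
      rw [one_mul]; exact (p.a.comm u hu c hc).symm) e⟩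
  have c := (p.a.comm u hu k hk).symm
  have j : Iv K K' k (k * u) := ⟨hk, i.sK, kk, i.ss, k1, i.s1, (Commute.refl k).mul_left c.symm⟩
  exact ⟨k, hk, kk, k1, fun c hc h2 e => p.two_K j hc h2 (e.mul_right (p.a.comm u hu c hc).symm) e⟩

end Tw

end CfsgLib.J1S
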