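import Mathlib
import Cfsg.Agent.Lib.J1S.TwA

/-! Standard subgroup `J₁` (plans/J1S.md, package TW). -/

set_option autoImplicit false
set_option linter.unusedSectionVars false

namespace CfsgLib.J1S

open Subgroup Cfsg CfsgLib.StdInt CfsgLib.StdW

variable {G : Type*} [Group G] {L : Subgroup G}

theorem Am.conj {K N : Subgroup G} (a : Am L K N) (g : G) : Am (cj g L) (cj g K) (cj g N) := by
  have e : ∀ {H : Subgroup G} {x : G}, x ∈ cj g H ↔ MulAut.conj g⁻¹ x ∈ H := fun {H x} => by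
    rw [mem_cj, MulAut.conj_apply, inv_inv]
  have w : ∀ {s x : G}, x ∈ WG (cj g L) s ↔ MulAut.conj g⁻¹ x ∈ WG L (MulAut.conj g⁻¹ s) := fun {s x} =>
    ⟨fun h => by simpa using mem_WG_cj h, fun h => by
      have := mem_WG_cj (L := cj g L) (g := g⁻¹) (by rwa [cj_cj, inv_mul_cancel, cj_of_norm (one_mem _)])
      simpa [mul_assoc] using this⟩
  generalize MulAut.conj g⁻¹ = f at e w
  have s := f.symm.surjective
  have o : ∀ {x : G}, Odd (orderOf (f x)) ↔ Odd (orderOf x) := by simp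
  refine ⟨fun l h1 k h2 => (comm_map f).1 (a.comm _ (e.1 h1) _ (e.1 h2)),
    fun x h1 h2 => o.1 (a.cen _ (e.1 h1) (e.1 h2)),
    fun r h1 h2 h3 c h4 => e.2 (a.nrm _ (e.1 h1) ((sq_map f).2 h2) (f.map_ne_one_iff.2 h3) _ (h4.map f)),
    fun c h1 l h2 => e.2 (by simpa using a.nL _ (e.1 h1) _ (e.1 h2)),
    fun c h1 l h2 => e.2 (by simpa using a.nK _ (e.1 h1) _ (e.1 h2)), map_mono a.lN, map_mono a.kN,
    fun h h1 => ?_, fun s h1 h2 h3 w h4 w' h5 o1 o2 c1 c2 h6 => ?_, fun s h1 h2 h3 Q M h4 h5 h6 h7 => ?_,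
    fun s h1 h2 h3 c h4 h5 h6 h7 => ?_⟩
  · obtain ⟨l, hl, k, hk, h3⟩ := a.dec _ (e.1 h1)
    exact ⟨f.symm l, e.2 (by simpa), f.symm k, e.2 (by simpa), by rw [← map_mul, ← h3, f.symm_apply_apply]⟩
  · rw [e, e]
    refine a.ind _ (e.1 h1) ((sq_map f).2 h2) (mt e.2 h3) _ (e.1 h4) _ (e.1 h5) (o.2 o1) (o.2 o2) (c1.map f)
      (c2.map f) fun x hx c => ?_
    obtain ⟨x, rfl⟩ := f.surjective x
    simpa using e.1 (h6 x (e.2 hx) ((comm_map f).1 c))
  · have h8 := a.gen _ (e.1 h1) ((sq_map f).2 h2) (mt e.2 h3) (Q.comap f.symm.toMonoidHom)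
      (M.comap f.symm.toMonoidHom) (comap_mono h4) (fun c hc q hq => by simpa using h5 _ hc _ hq)
      (fun x hx => h6 (w.2 (by simpa using hx))) fun r r1 r2 r3 x hx =>
        h7 _ r1 ((sq_map f.symm).2 r2) (f.symm.map_ne_one_iff.2 r3) _ (hx.map f.symm)
    exact fun x hx => by simpa using h8 (e.1 hx)
  · rw [e, e, map_mul]
    refine a.fix _ (e.1 h1) ((sq_map f).2 h2) (mt e.2 h3) _ (e.1 h4) (h5.map f) ((two_map f).2 h6) fun v hv h8 => ?_
    obtain ⟨v, rfl⟩ := f.surjective v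
    exact (h7 v (w.2 hv) ((two_map f).1 h8)).map f

variable [Finite G]

theorem tw_of (hL : IsStandardSubgroup L) (h : GoodJ L) {g : G} (hg : g ∉ normalizer (L : Set G)) :
    Tw L (centralizer (L : Set G)) (normalizer (L : Set G)) (cj g L) (cj g (centralizer (L : Set G)))
      (cj g (normalizer (L : Set G))) where
  a := am_of hL h
  b := (am_of hL h).conj g
  od x h1 h2 := odd_of_mem (hL.2.1.2 g (hL.2.2.2 ▸ hg)) ⟨h1, h2⟩
  nle e := hL.2.2.1 g (mt norm_of_cj hg) (commutator_eq_bot_iff_le_centralizer.2 (by rwa [cent_cj]))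
  nle' e := hL.2.2.1 g (mt norm_of_cj hg) (by rwa [commutator_comm, commutator_eq_bot_iff_le_centralizer])

section

variable (hF : IsSimpleGroup (generalizedFittingSubgroup G)) (hF' : ¬IsMulCommutative (generalizedFittingSubgroup G))
  (hL : IsStandardSubgroup L)
include hF hF' hL

theorem exists_pair (h : GoodJ L) : ∃ g ∉ normalizer (L : Set G), ∃ t s,
    Iv (centralizer (L : Set G)) (cj g (centralizer (L : Set G))) t s := by
  have a := am_of hL h
  obtain ⟨t, tK, tt, t1⟩ := exists_invol (Nat.not_odd_iff_even.2 hL.2.1.1)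
  obtain ⟨g, hg, h1⟩ : ∃ g ∉ normalizer (L : Set G),
      ¬Odd (Nat.card ↥(cj g (centralizer (L : Set G)) ⊓ normalizer (L : Set G))) := by
    by_contra! h1
    rw [hL.2.2.2] at h1
    rcases Cfsg.Agent.S1911.result _ hL.2.1 h1 with e | e
    · exact not_normal hF hF' hL (normalizer_eq_top_iff.1 (hL.2.2.2.trans (normalizer_eq_top_iff.2 e)))
    · have h2 : L ≤ normalClosure (centralizer (L : Set G) : Set G) := (le_fstar hF hF' hL).trans
        (fstar_le hF inferInstance fun e => t1 (mem_bot.1 (e ▸ subset_normalClosure tK)))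
      obtain ⟨r, rL, rr, r1⟩ := exists_invol (H := L) fun e => not_solvable hL (FT.odd_order_solvable e)
      have := solvable_of_se e ⟨⟨r, h2 rL⟩, ⟨t, subset_normalClosure tK⟩, fun e => r1 (congrArg Subtype.val e),
        fun e => t1 (congrArg Subtype.val e), fun e => r1 (eq_one_of_odd_sq (a.cen r rL (by
          rw [show r = t from congrArg Subtype.val e]; exact tK)) rr), Subtype.ext rr, Subtype.ext tt,
        Subtype.ext (a.comm r rL t tK)⟩
      let f := (inclusion h2).codRestrict ((normalizer (centralizer (L : Set G) : Set G)).subgroupOf _) fun x =>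
        hL.2.2.2.le (a.lN x.2)
      exact not_solvable hL (Group.isSolvable_of_isSolvable_injective (f := f)
        fun x y e => inclusion_injective h2 (congrArg Subtype.val e))
  obtain ⟨s, ⟨s2, s3⟩, ss, s1⟩ := exists_invol h1
  obtain ⟨t, tK, tt, t1, c⟩ := exists_comm (a.nK s s3) ss
    (fun e => s1 (eq_one_of_odd_sq ((tw_of hL h hg).od s e s2) ss)) tK tt t1
  exact ⟨g, hg, t, s, tK, s2, tt, ss, t1, s1, c⟩

end

theorem exists_two (hF : IsSimpleGroup (generalizedFittingSubgroup G))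
    (hF' : ¬IsMulCommutative (generalizedFittingSubgroup G)) (hL : IsStandardSubgroup L) (h : GoodJ L) :
    ∃ t ∈ centralizer (L : Set G), t * t = 1 ∧ t ≠ 1 ∧
      ∀ k ∈ centralizer (L : Set G), Two k → Commute k t → k = 1 ∨ k = t := by
  obtain ⟨g, hg, t, s, i⟩ := exists_pair hF hF' hL h
  exact (tw_of hL h hg).exists_two i

end CfsgLib.J1S
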